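/-
Abstract binary Golay codes: dimension 12, self-orthogonal, minimum weight at least 8 in length 24.
Coset leaders are counted tightly, giving the Steiner system, double evenness and generation.
-/
import Mathlib
import Cfsg.Prelude.Def_Sporadic_a

set_option autoImplicit false

namespace CfsgLib.AbsGolay

open Cfsg
open scoped symmDiff

/-- Binary words of length 24. -/
abbrev V := Fin 24 → ZMod 2

/-- The word with a given support. -/
def wordS (s : Finset (Fin 24)) : V := fun i => if i ∈ s then 1 else 0

theorem supp_wordS (s : Finset (Fin 24)) : support₂ (wordS s) = s := by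
  ext i; simp [support₂, wordS]

theorem wordS_supp (w : V) : wordS (support₂ w) = w := by
  funext i
  have h : ∀ a : ZMod 2, (if a ≠ 0 then (1 : ZMod 2) else 0) = a := by decide
  simpa [wordS, support₂] using h (w i)

theorem weight_wordS (s : Finset (Fin 24)) : hammingNorm (wordS s) = s.card := by
  conv_rhs => rw [← supp_wordS s]
  rfl

theorem weight_eq (w : V) : hammingNorm w = (support₂ w).card := rfl

theorem wordS_add (s t : Finset (Fin 24)) : wordS s + wordS t = wordS (s ∆ t) := by
  funext i
  by_cases h1 : i ∈ s <;> by_cases h2 : i ∈ t <;> simp [wordS, Finset.mem_symmDiff, h1, h2]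
  rfl

theorem sub_eq_add (v w : V) : v - w = v + w :=
  funext fun i => (by decide : ∀ a b : ZMod 2, a - b = a + b) (v i) (w i)

theorem card_symmDiff (s t : Finset (Fin 24)) :
    (s ∆ t).card + 2 * (s ∩ t).card = s.card + t.card := by
  rw [symmDiff_def, Finset.sup_eq_union, Finset.card_union_of_disjoint disjoint_sdiff_sdiff]
  have h1 := Finset.card_sdiff_add_card_inter s t
  have h2 := Finset.card_sdiff_add_card_inter t s
  rw [Finset.inter_comm t s] at h2
  omega

/-- The hypotheses on the code. -/
structure IsGolay (C : Submodule (ZMod 2) V) : Prop where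
  dim : Module.finrank (ZMod 2) C = 12
  orth : ∀ v ∈ C, ∀ w ∈ C, ∑ i, v i * w i = 0
  minWt : ∀ w ∈ C, w ≠ 0 → 8 ≤ hammingNorm w

variable {C : Submodule (ZMod 2) V}

theorem IsGolay.empty_or_big (h : IsGolay C) {s : Finset (Fin 24)} (hs : wordS s ∈ C) :
    s = ∅ ∨ 8 ≤ s.card := by
  by_cases h0 : wordS s = 0
  · left
    rw [← supp_wordS s, h0]
    ext i; simp [support₂]
  · right
    rw [← weight_wordS]
    exact h.minWt _ hs h0

theorem IsGolay.inter_even (h : IsGolay C) {s t : Finset (Fin 24)} (hs : wordS s ∈ C)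
    (ht : wordS t ∈ C) : Even (s ∩ t).card := by
  have e := h.orth _ hs _ ht
  have e2 : ∀ i, wordS s i * wordS t i = if i ∈ s ∩ t then (1 : ZMod 2) else 0 := by
    intro i
    by_cases h1 : i ∈ s <;> by_cases h2 : i ∈ t <;> simp [wordS, h1, h2]
  simp only [e2, Finset.sum_ite_mem, Finset.univ_inter, Finset.sum_const, nsmul_eq_mul, mul_one] at e
  exact ((ZMod.natCast_eq_zero_iff_even).1 e)

theorem IsGolay.small_pair (h : IsGolay C) {s t : Finset (Fin 24)} (hs : s.card ≤ 4)
    (ht : t.card ≤ 4) (hne : s ≠ t) (hC : wordS (s ∆ t) ∈ C) :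
    s.card = 4 ∧ t.card = 4 ∧ Disjoint s t ∧ wordS (s ∪ t) ∈ C := by
  have hc := card_symmDiff s t
  rcases h.empty_or_big hC with e | e
  · exact absurd (symmDiff_eq_bot.1 e) hne
  · have hd : Disjoint s t := by
      rw [Finset.disjoint_iff_inter_eq_empty, ← Finset.card_eq_zero]; omega
    refine ⟨by omega, by omega, hd, ?_⟩
    rwa [hd.symmDiff_eq_sup] at hC

/-- The coset of a set. -/
abbrev coset (C : Submodule (ZMod 2) V) (s : Finset (Fin 24)) : V ⧸ C :=
  Submodule.Quotient.mk (wordS s)

theorem coset_eq_iff {s t : Finset (Fin 24)} : coset C s = coset C t ↔ wordS (s ∆ t) ∈ C := by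
  rw [Submodule.Quotient.eq, sub_eq_add, wordS_add]

theorem IsGolay.card_quot (h : IsGolay C) : Nat.card (V ⧸ C) = 4096 := by
  have h1 := Submodule.card_eq_card_quotient_mul_card C
  have h2 : Nat.card C = 4096 := by
    rw [Module.natCard_eq_pow_finrank (K := ZMod 2), h.dim]; simp
  have h3 : Nat.card V = 16777216 := by
    simp [Nat.card_eq_fintype_card]
  rw [h2, h3] at h1
  omega

/-- Every coset meets the ball of radius four, and a four-set lies in a class of six. -/
theorem IsGolay.tight (h : IsGolay C) :
    (∀ q : V ⧸ C, ∃ t : Finset (Fin 24), t.card ≤ 4 ∧ coset C t = q) ∧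
    ∀ t : Finset (Fin 24), t.card = 4 →
      {u : Finset (Fin 24) | u.card ≤ 4 ∧ coset C u = coset C t}.ncard = 6 := by
  classical
  let : Fintype (V ⧸ C) := Fintype.ofFinite _
  let low := (Finset.range 4).biUnion fun k => (Finset.univ : Finset (Fin 24)).powersetCard k
  let top := (Finset.univ : Finset (Fin 24)).powersetCard 4
  have hlow : ∀ u ∈ low, u.card ≤ 3 := fun u hu => by
    simp only [low, Finset.mem_biUnion, Finset.mem_range, Finset.mem_powersetCard] at hu
    obtain ⟨k, hk, -, rfl⟩ := hu
    omega
  have htop : ∀ u, u ∈ top ↔ u.card = 4 := fun u => by simp [top]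
  have hinj : Set.InjOn (coset C) (low : Set (Finset (Fin 24))) := fun u hu v hv e => by
    by_contra hne
    have := hlow u hu
    have := hlow v hv
    have := h.small_pair (s := u) (t := v) (by omega) (by omega) hne (coset_eq_iff.1 e)
    omega
  have clow : (low.image (coset C)).card = 2325 := by
    rw [Finset.card_image_of_injOn hinj, Finset.card_biUnion]
    · simp only [Finset.card_powersetCard, Finset.card_univ, Fintype.card_fin]
      decide +kernel
    · intro a _ b _ hab
      exact Finset.disjoint_left.2 fun u hu hu' =>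
        hab ((Finset.mem_powersetCard.1 hu).2.symm.trans (Finset.mem_powersetCard.1 hu').2)
  have hfib : ∀ q ∈ top.image (coset C), (top.filter fun u => coset C u = q).card ≤ 6 := by
    intro q _
    have hd : ((top.filter fun u => coset C u = q).biUnion fun u => u).card =
        4 * (top.filter fun u => coset C u = q).card := by
      rw [Finset.card_biUnion, Finset.sum_congr rfl fun u hu =>
        (htop u).1 (Finset.mem_filter.1 hu).1, Finset.sum_const, smul_eq_mul, Nat.mul_comm]
      intro u hu v hv hne
      simp only [Finset.mem_coe, Finset.mem_filter, htop] at hu hv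
      exact (h.small_pair hu.1.le hv.1.le hne (coset_eq_iff.1 (hu.2.trans hv.2.symm))).2.2.1
    have := Finset.card_le_univ ((top.filter fun u => coset C u = q).biUnion fun u => u)
    rw [Fintype.card_fin, hd] at this
    omega
  have hsum := Finset.card_eq_sum_card_image (coset C) top
  have ctop : top.card = 10626 := by
    simp only [top, Finset.card_powersetCard, Finset.card_univ, Fintype.card_fin]; decide +kernel
  have hdis : Disjoint (low.image (coset C)) (top.image (coset C)) := by
    refine Finset.disjoint_left.2 fun x hx hx' => ?_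
    obtain ⟨u, hu, rfl⟩ := Finset.mem_image.1 hx
    obtain ⟨v, hv, e⟩ := Finset.mem_image.1 hx'
    have h3 := hlow u hu
    have h4 := (htop v).1 hv
    have hne : u ≠ v := fun e => by rw [e] at h3; omega
    have := h.small_pair (s := u) (t := v) (by omega) (by omega) hne (coset_eq_iff.1 e.symm)
    omega
  have hq : Fintype.card (V ⧸ C) = 4096 := by rw [← Nat.card_eq_fintype_card, h.card_quot]
  have hle := Finset.card_le_univ (low.image (coset C) ∪ top.image (coset C))
  rw [Finset.card_union_of_disjoint hdis, clow, hq] at hle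
  have hge : 10626 ≤ 6 * (top.image (coset C)).card := by
    rw [← ctop, hsum]
    refine le_trans (Finset.sum_le_sum hfib) ?_
    rw [Finset.sum_const, smul_eq_mul, Nat.mul_comm]
  have hc : (top.image (coset C)).card = 1771 := by omega
  have hall : low.image (coset C) ∪ top.image (coset C) = Finset.univ := by
    refine Finset.eq_univ_of_card _ ?_
    rw [Finset.card_union_of_disjoint hdis, clow, hc, hq]
  refine ⟨fun q => ?_, fun t ht => ?_⟩
  · have hm : q ∈ low.image (coset C) ∪ top.image (coset C) := hall ▸ Finset.mem_univ q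
    rcases Finset.mem_union.1 hm with hm | hm <;> obtain ⟨u, hu, e⟩ := Finset.mem_image.1 hm
    · exact ⟨u, by have := hlow u hu; omega, e⟩
    · exact ⟨u, ((htop u).1 hu).le, e⟩
  · have heq : ∀ q ∈ top.image (coset C), (top.filter fun u => coset C u = q).card = 6 := by
      refine (Finset.sum_eq_sum_iff_of_le hfib).1 ?_
      rw [← hsum, ctop, Finset.sum_const, smul_eq_mul, hc]
    rw [← heq _ (Finset.mem_image_of_mem _ ((htop t).2 ht)), ← Set.ncard_coe_finset]
    refine congrArg Set.ncard (Set.ext fun u => ?_)
    simp only [Set.mem_ofPred_eq, Finset.coe_filter, htop]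
    refine ⟨fun ⟨hu, e⟩ => ⟨?_, e⟩, fun ⟨hu, e⟩ => ⟨hu.le, e⟩⟩
    by_cases hut : u = t
    · rw [hut, ht]
    · exact (h.small_pair hu ht.le hut (coset_eq_iff.1 e)).1

/-- Every five-set lies in a code word of weight eight. -/
theorem IsGolay.exists_eight (h : IsGolay C) {s : Finset (Fin 24)} (hs : s.card = 5) :
    ∃ o : Finset (Fin 24), o.card = 8 ∧ wordS o ∈ C ∧ s ⊆ o := by
  classical
  obtain ⟨p, hp⟩ := Finset.card_pos.1 (by omega : 0 < s.card)
  set t := s.erase p with ht
  have ht4 : t.card = 4 := by rw [ht, Finset.card_erase_of_mem hp, hs]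
  let F := Finset.univ.filter fun u : Finset (Fin 24) => u.card ≤ 4 ∧ coset C u = coset C t
  have hF : F.card = 6 := by
    rw [← h.tight.2 t ht4, ← Set.ncard_coe_finset]
    refine congrArg Set.ncard (Set.ext fun u => ?_)
    simp [F]
  have card4 : ∀ u ∈ F, u.card = 4 := by
    intro u hu
    by_cases hut : u = t
    · rw [hut, ht4]
    · simp only [F, Finset.mem_filter] at hu
      exact (h.small_pair hu.2.1 ht4.le hut (coset_eq_iff.1 hu.2.2)).1
  have hd : ∀ u ∈ F, ∀ v ∈ F, u ≠ v → Disjoint u v ∧ wordS (u ∪ v) ∈ C := by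
    intro u hu v hv hne
    simp only [F, Finset.mem_filter] at hu hv
    exact (h.small_pair hu.2.1 hv.2.1 hne (coset_eq_iff.1 (hu.2.2.trans hv.2.2.symm))).2.2
  have hcov : (F.biUnion fun u => u) = Finset.univ := by
    refine Finset.eq_univ_of_card _ ?_
    rw [Finset.card_biUnion fun u hu v hv hne => (hd u hu v hv hne).1,
      Finset.sum_congr rfl card4, Finset.sum_const, smul_eq_mul, hF, Fintype.card_fin]
  have hm : p ∈ F.biUnion fun u => u := hcov ▸ Finset.mem_univ p
  obtain ⟨u, hu, hpu⟩ := Finset.mem_biUnion.1 hm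
  have hne : t ≠ u := fun e => Finset.notMem_erase p s (show p ∈ t by rwa [e])
  have htF : t ∈ F := by simp [F, ht4]
  obtain ⟨hdu, hCu⟩ := hd t htF u hu hne
  refine ⟨t ∪ u, by rw [Finset.card_union_of_disjoint hdu, ht4, card4 u hu], hCu, ?_⟩
  intro x hx
  by_cases hxp : x = p
  · exact Finset.mem_union_right _ (hxp ▸ hpu)
  · exact Finset.mem_union_left _ (Finset.mem_erase.2 ⟨hxp, hx⟩)

/-- Two weight-eight words sharing five points are equal. -/
theorem IsGolay.eight_unique (h : IsGolay C) {o o' s : Finset (Fin 24)} (ho : o.card = 8)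
    (hoC : wordS o ∈ C) (ho' : o'.card = 8) (hoC' : wordS o' ∈ C) (hs : 5 ≤ s.card) (h1 : s ⊆ o)
    (h2 : s ⊆ o') : o = o' := by
  have hC : wordS (o ∆ o') ∈ C := wordS_add o o' ▸ add_mem hoC hoC'
  rcases h.empty_or_big hC with e | e
  · exact symmDiff_eq_bot.1 e
  · have := card_symmDiff o o'
    have := Finset.card_le_card (Finset.subset_inter h1 h2)
    omega

/-- Double evenness and generation by weight-eight words. -/
theorem IsGolay.span_eight (h : IsGolay C) : ∀ s : Finset (Fin 24), wordS s ∈ C →
    4 ∣ s.card ∧ wordS s ∈ Submodule.span (ZMod 2) {w : V | w ∈ C ∧ hammingNorm w = 8} := by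
  intro s
  induction hn : s.card using Nat.strong_induction_on generalizing s with
  | _ n ih =>
    intro hs
    subst hn
    rcases h.empty_or_big hs with e | e
    · subst e
      refine ⟨by simp, ?_⟩
      rw [show wordS (∅ : Finset (Fin 24)) = 0 from funext fun i => by simp [wordS]]
      exact zero_mem _
    · obtain ⟨f, hf, hfc⟩ := Finset.exists_subset_card_eq (s := s) (n := 5) (by omega)
      obtain ⟨o, ho, hoC, hfo⟩ := h.exists_eight hfc
      have h5 := Finset.card_le_card (Finset.subset_inter hf hfo)
      have hc := card_symmDiff s o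
      have hC : wordS (s ∆ o) ∈ C := wordS_add s o ▸ add_mem hs hoC
      obtain ⟨d4, dsp⟩ := ih _ (by omega) (s ∆ o) rfl hC
      obtain ⟨k, hk⟩ := h.inter_even hs hoC
      refine ⟨by omega, ?_⟩
      have e2 : wordS s = wordS (s ∆ o) + wordS o := by
        rw [wordS_add, symmDiff_symmDiff_cancel_right]
      rw [e2]
      exact add_mem dsp (Submodule.subset_span ⟨hoC, by rw [weight_wordS, ho]⟩)

end CfsgLib.AbsGolay
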